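import Cfsg.Agent.H365.SporCheck
import Cfsg.Agent.H364.LieNam
import Cfsg.Agent.H895.SLT.ResCard

/-!
# S2499: a multiple of the order of the outer automorphism group (helper172)
-/

set_option autoImplicit false
set_option maxRecDepth 100000

namespace Cfsg.Agent.H172.Cov

open Subgroup Cfsg Cfsg.Agent.OrdDiv Cfsg.Agent.H364
open Cfsg.Agent.H902 Cfsg.Agent.H902.Names Cfsg.Agent.H365.SporCheck

universe u

/-- the admissible names -/
def okX : Grp → Bool
  | .alt n => Nat.blt 4 n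
  | .oplus n q => okQ q && Nat.blt 3 n
  | .ominus n q => okQ q && Nat.blt 3 n
  | .f4 q => okQ q
  | .td4 q => okQ q
  | g => okC g

/-- a multiple of the order of the outer automorphism group -/
def outX : Grp → ℕ
  | .alt _ => 4
  | .oplus n q => 24 * Nat.gcd 4 (q ^ n - 1) * (pfOf q).2
  | .ominus n q => 24 * Nat.gcd 4 (q ^ n + 1) * (pfOf q).2
  | .f4 q => 24 * (pfOf q).2
  | .td4 q => 24 * (pfOf q).2
  | g => outC g

theorem out_dvd_X (T : OrderTable.{0}) {S : Type} [Group S] [Finite S] [IsSimpleGroup S]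
    (hna : ¬ ∀ a b : S, a * b = b * a) (g : Grp) (hok : okX g = true) (h : OrdDiv.Real g S) :
    Nat.card (Cfsg.Out S) ∣ outX g := by
  have hna' : ¬ IsMulCommutative S := fun hc => hna fun a b => hc.is_comm.comm a b
  cases g with
  | alt n =>
    obtain ⟨e⟩ := h
    rw [okX, Nat.blt_eq] at hok
    by_cases h6 : n = 6
    · subst h6
      have h1 := Cfsg.Agent.H895.SLT.card_aut_a6
      have h2 : Nat.card (alternatingGroup (Fin 6)) = 360 := by
        rw [Nat.card_eq_fintype_card]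
        have := two_mul_card_alternatingGroup (α := Fin 6)
        rw [Fintype.card_perm, Fintype.card_fin] at this
        have h6 : Nat.factorial 6 = 720 := by decide
        omega
      have h3 : Nat.card (MulAut S) = 4 * Nat.card S := by
        rw [OutLie.mulaut_congr e, h1, Nat.card_congr e.toEquiv, h2]
      rw [H934.OutB.card_out_of_aut hna' h3]
      exact dvd_refl 4
    · rw [card_out_congr e, H489.card_out_alt (by omega) h6]
      show 2 ∣ 4
      norm_num
  | oplus n q =>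
    simp only [okX, Bool.and_eq_true, Nat.blt_eq] at hok
    obtain ⟨h1, h2⟩ := hok
    obtain ⟨p, f, hp, hf, rfl, hpf⟩ := okQ_spec h1
    have h' := h
    obtain ⟨F, _, _, hF, ⟨e⟩⟩ := h'
    have h4 := isLie_out hna (IsLie.oplus n p f) h (by
      rw [Nat.card_congr e.toEquiv]; exact oplus_real hp hf hF (by omega))
    show _ ∣ 24 * Nat.gcd 4 ((p ^ f) ^ n - 1) * (pfOf (p ^ f)).2
    rw [hpf]; exact h4
  | ominus n q =>
    simp only [okX, Bool.and_eq_true, Nat.blt_eq] at hok
    obtain ⟨h1, h2⟩ := hok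
    obtain ⟨p, f, hp, hf, rfl, hpf⟩ := okQ_spec h1
    have h' := h
    obtain ⟨F, _, _, a, b, hF, hab, ⟨e⟩⟩ := h'
    have h4 := isLie_out hna (IsLie.ominus n p f) h (by
      rw [Nat.card_congr e.toEquiv]; exact ominus_real hp hf hF (by omega) hab)
    show _ ∣ 24 * Nat.gcd 4 ((p ^ f) ^ n + 1) * (pfOf (p ^ f)).2
    rw [hpf]; exact h4
  | f4 q =>
    simp only [okX] at hok
    obtain ⟨p, f, hp, hf, rfl, hpf⟩ := okQ_spec hok
    have h' := h
    obtain ⟨F, _, _, hF, ⟨e⟩⟩ := h'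
    have h4 := isLie_out hna (IsLie.f4 p f) h (by
      refine ⟨hp, hf, trivial, ?_⟩
      rw [Nat.card_congr e.toEquiv, T.f4 F _ hF]
      change 1 * _ = (p ^ f) ^ 24 * (_ * _ * _ * _)
      ring)
    show _ ∣ 24 * (pfOf (p ^ f)).2
    rw [hpf]
    have h6 : Art.dd .F4 (p ^ f) = 1 := rfl
    rwa [h6, mul_one] at h4
  | td4 q =>
    simp only [okX] at hok
    obtain ⟨p, f, hp, hf, rfl, hpf⟩ := okQ_spec hok
    have h' := h
    obtain ⟨F, _, _, hF, ⟨e⟩⟩ := h'
    have hq : 1 ≤ p ^ f := Nat.one_le_pow _ _ hp.pos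
    have h4 := isLie_out hna (IsLie.td4 p f) h (by
      refine ⟨hp, hf, trivial, ?_⟩
      rw [Nat.card_congr e.toEquiv, T.td4 F _ (isPrimePow_nat_iff _ |>.2 ⟨p, f, hp, hf, rfl⟩) hF]
      change 1 * _ = (p ^ f) ^ 12 * (_ * _ * _)
      ring)
    show _ ∣ 24 * (pfOf (p ^ f)).2
    rw [hpf]
    have h6 : Art.dd .TD4 (p ^ f) = 1 := rfl
    rwa [h6, mul_one] at h4
  | _ =>
    have h1 := fun hok' => out_dvd T hna _ hok' h
    exact h1 hok

end Cfsg.Agent.H172.Cov
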